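import Cfsg.Agent.H298.OQ.PspTwo
import Cfsg.Agent.H706.PB.Defs
import Cfsg.Agent.H133.PB.LieCross
import Cfsg.Agent.S2524
import Cfsg.Agent.H658.Reg.EndChar
import Cfsg.Agent.S0269

/-!
# S4884, own characteristic: the groups `PSp_{2n}(Q)`, `Q` odd (helper298)

* `exists_weil_psp` : `PSp_{2n}(Q)` has an irreducible character of odd degree `(Q^n ± 1) / 2`.
* `rowB_psp` : `RowB q (PSp n F)` for `F` of odd characteristic `q`, `n ≥ 2`.
-/

set_option autoImplicit false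
set_option linter.unusedSectionVars false

open Matrix Cfsg Cfsg.Agent.Blocks

namespace Cfsg.Agent.H298.OQ

theorem exists_weil_sp (F : Type) [Field F] [Fintype F] (ho : Odd (Fintype.card F)) {n : ℕ} (hn : 2 ≤ n) :
    ∃ χ : symplecticGroup (Fin n) F → ℂ, IsIrrCharacter _ χ ∧ ∃ d : ℕ, χ 1 = d ∧ Odd d ∧
      (2 * d = Fintype.card F ^ n + 1 ∨ 2 * d + 1 = Fintype.card F ^ n) := by
  obtain ⟨h1, h2, -⟩ := S2524.result ho n hn
  have hodd : Odd (Fintype.card F ^ n) := ho.pow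
  obtain ⟨k, hk⟩ := hodd
  rcases Nat.even_or_odd k with hke | hko
  · -- `(Q^n + 1)/2 = k + 1` is odd
    have h3 : Nonempty {χ : Cfsg.IrrCharacter ↥(Matrix.symplecticGroup (Fin n) F) //
        (χ : ↥(Matrix.symplecticGroup (Fin n) F) → ℂ) 1 = (((Fintype.card F) ^ n + 1 : ℕ) : ℂ) / 2} :=
      (Nat.card_pos_iff.1 (by rw [h1]; norm_num)).1
    obtain ⟨⟨χ, hχ⟩⟩ := h3
    refine ⟨χ.1, χ.2, k + 1, ?_, hke.add_one, Or.inl (by omega)⟩
    rw [show χ.1 1 = (((Fintype.card F) ^ n + 1 : ℕ) : ℂ) / 2 from hχ, hk]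
    push_cast
    ring
  · have h3 : Nonempty {χ : Cfsg.IrrCharacter ↥(Matrix.symplecticGroup (Fin n) F) //
        (χ : ↥(Matrix.symplecticGroup (Fin n) F) → ℂ) 1 = (((Fintype.card F) ^ n - 1 : ℕ) : ℂ) / 2} :=
      (Nat.card_pos_iff.1 (by rw [h2]; norm_num)).1
    obtain ⟨⟨χ, hχ⟩⟩ := h3
    refine ⟨χ.1, χ.2, k, ?_, hko, Or.inr (by omega)⟩
    rw [show χ.1 1 = (((Fintype.card F) ^ n - 1 : ℕ) : ℂ) / 2 from hχ, hk]
    push_cast
    ring

/-- a Weil character of odd degree of the simple group -/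
theorem exists_weil_psp (F : Type) [Field F] [Fintype F] (ho : Odd (Fintype.card F)) {n : ℕ} (hn : 2 ≤ n) :
    ∃ χ : IrrCharacter (PSp n F), Odd (charDegree (χ : PSp n F → ℂ)) ∧
      (2 * charDegree (χ : PSp n F → ℂ) = Fintype.card F ^ n + 1 ∨
        2 * charDegree (χ : PSp n F → ℂ) + 1 = Fintype.card F ^ n) := by
  obtain ⟨χ, hχ, d, hd, hdo, hd2⟩ := exists_weil_sp F ho hn
  have hq : 3 ≤ Fintype.card F := by
    have h1 : 1 < Fintype.card F := Fintype.one_lt_card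
    obtain ⟨k, hk⟩ := ho
    omega
  have hperf : commutator (symplecticGroup (Fin n) F) = ⊤ := S0269.result n (by omega)
  have hfin : Finite (symplecticGroup (Fin n) F) := inferInstance
  obtain ⟨χ', h', h''⟩ := H658.Reg.exists_defl
    (QuotientGroup.mk' (Subgroup.center (symplecticGroup (Fin n) F))) (QuotientGroup.mk'_surjective _) hχ (by
      intro z hz
      rw [← MonoidHom.mem_ker, QuotientGroup.ker_mk'] at hz
      by_contra hne
      have h3 : z * z = 1 := by rw [← pow_two]; exact H188.EP.center_sq hz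
      exact (Nat.not_even_iff_odd.2 hdo) (even_iff_two_dvd.2 (H658.Reg.even_of_central hperf hz h3 hχ hne hd)))
  have hdeg : charDegree χ' = d := by
    apply Blocks.Basic.charDegree_of_eq
    rw [← hd, h'' 1, map_one]
  refine ⟨⟨χ', h'⟩, ?_, ?_⟩
  · show Odd (charDegree χ')
    rwa [hdeg]
  · show 2 * charDegree χ' = _ ∨ 2 * charDegree χ' + 1 = _
    rwa [hdeg]

/-- **own characteristic row of S4884 for `PSp_{2n}(Q)`, `Q` odd, `n ≥ 2`** -/
theorem rowB_psp {q : ℕ} (hq : q.Prime) (hq2 : q ≠ 2) (F : Type) [Field F] [Fintype F] [hF : CharP F q] {n : ℕ}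
    (hn : 2 ≤ n) : H706.PB.RowB q (PSp n F) := by
  have : Fact q.Prime := ⟨hq⟩
  obtain ⟨e, -, he⟩ := FiniteField.card F q
  have ho : Odd (Fintype.card F) := by
    rw [he]
    exact (hq.odd_of_ne_two hq2).pow
  have h2 : (2 : F) ≠ 0 := S2524.two_ne ho
  have hfin : Finite (PSp n F) := Quotient.finite _
  have hc3 : 3 ≤ Fintype.card F := by
    have h1 : 1 < Fintype.card F := Fintype.one_lt_card
    obtain ⟨k, hk⟩ := ho
    omega
  obtain ⟨χ, h1, h3⟩ := exists_weil_psp F ho hn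
  have hpow : 9 ≤ Fintype.card F ^ n := by
    calc 9 = 3 ^ 2 := by norm_num
      _ ≤ Fintype.card F ^ 2 := Nat.pow_le_pow_left hc3 2
      _ ≤ Fintype.card F ^ n := Nat.pow_le_pow_right (by omega) hn
  have hd1 : charDegree (χ : PSp n F → ℂ) ≠ 1 := by omega
  have hdq : ¬ q ∣ charDegree (χ : PSp n F → ℂ) := by
    intro h
    have h4 : q ∣ Fintype.card F ^ n := by
      rw [he, ← pow_mul]
      exact dvd_pow_self q (Nat.mul_ne_zero e.ne_zero (by omega))
    have h5 : q ∣ 2 * charDegree (χ : PSp n F → ℂ) := h.mul_left 2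
    have h6 : q ∣ 1 := by
      rcases h3 with h3 | h3
      · rw [h3] at h5
        exact (Nat.dvd_add_right h4).1 h5
      · rw [← h3] at h4
        exact (Nat.dvd_add_right h5).1 h4
    exact hq.one_lt.ne' (Nat.dvd_one.1 h6)
  have h2d : ¬ 2 ∣ charDegree (χ : PSp n F → ℂ) := fun h =>
    (Nat.not_even_iff_odd.2 h1) (even_iff_two_dvd.2 h)
  obtain ⟨r, hr, hrd⟩ := Nat.exists_prime_and_dvd hd1
  have hlie : IsLieTypeChar q (PSp n F) :=
    Or.inr (Or.inl ⟨F, inferInstance, inferInstance, hF, n, hn, fun _ => hc3, ⟨MulEquiv.refl _⟩⟩)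
  intro M2 Mq hM2 hMq
  refine ⟨χ, ?_, H133.PB.mem_principal_of_lie hq hr (fun h => hdq (h ▸ hrd)) hlie χ hrd hMq, ?_, h2d, hdq⟩
  · obtain ⟨U, hU, hU'⟩ := two_local F h2 n
    have : Fact (Nat.Prime 2) := ⟨Nat.prime_two⟩
    refine H493.RatB.mem_of_value hM2 hU χ h2d fun y hy hy2 => ?_
    rw [hU' y hy hy2, sub_self]
    exact Cfsg.Agent.Blocks.LocalRing.memLocalIdeal_zero hM2
  · intro h
    apply hd1
    rw [h]
    exact Blocks.Basic.charDegree_of_eq (by simp)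

end Cfsg.Agent.H298.OQ
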