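import Cfsg.Agent.H188.EP.RestPsp

/-!
# A 2-subgroup of `PSp_{2n}(q)`, `q` odd, whose centralizer is a 2-group (helper298, S4884)

* `two_local` : there is a 2-subgroup `U` of `PSp n F` (the image of `Q_8^n`) such that every element of odd order
  of `PSp n F` centralizing `U` is trivial.
-/

set_option autoImplicit false
set_option linter.unusedSectionVars false

open Matrix Cfsg

namespace Cfsg.Agent.H298.OQ

universe u

variable {F : Type u} [Field F] {n : ℕ}

/-- the block diagonal matrix with the 2 x 2 blocks `G i` on the hyperbolic planes `⟨e_i, f_i⟩` -/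
def bd (G : Fin n → Matrix (Fin 2) (Fin 2) F) : Matrix (Fin n ⊕ Fin n) (Fin n ⊕ Fin n) F :=
  fromBlocks (diagonal fun i => G i 0 0) (diagonal fun i => G i 0 1) (diagonal fun i => G i 1 0)
    (diagonal fun i => G i 1 1)

theorem bd_mul (G H : Fin n → Matrix (Fin 2) (Fin 2) F) : bd (G * H) = bd G * bd H := by
  rw [bd, bd, bd, fromBlocks_multiply]
  simp only [diagonal_mul_diagonal, diagonal_add, Pi.mul_apply, mul_apply, Fin.sum_univ_two]

theorem bd_one : bd (1 : Fin n → Matrix (Fin 2) (Fin 2) F) = 1 := by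
  rw [bd]
  simp only [Pi.one_apply, one_apply_eq]
  have h1 : (1 : Matrix (Fin 2) (Fin 2) F) 0 1 = 0 := by simp
  have h2 : (1 : Matrix (Fin 2) (Fin 2) F) 1 0 = 0 := by simp
  simp only [h1, h2]
  rw [show (diagonal fun _ : Fin n => (1 : F)) = 1 from diagonal_one,
    show (diagonal fun _ : Fin n => (0 : F)) = 0 from diagonal_zero, fromBlocks_one]

theorem bd_injective : Function.Injective (bd : (Fin n → Matrix (Fin 2) (Fin 2) F) → _) := by
  intro G H h
  rw [bd, bd, fromBlocks_inj] at h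
  obtain ⟨h1, h2, h3, h4⟩ := h
  have e1 := diagonal_injective h1
  have e2 := diagonal_injective h2
  have e3 := diagonal_injective h3
  have e4 := diagonal_injective h4
  funext i
  ext a b
  fin_cases a <;> fin_cases b
  · exact congrFun e1 i
  · exact congrFun e2 i
  · exact congrFun e3 i
  · exact congrFun e4 i

/-- the symplectic condition -/
theorem bd_mem {G : Fin n → Matrix (Fin 2) (Fin 2) F} :
    bd G ∈ symplecticGroup (Fin n) F ↔ ∀ i, (G i).det = 1 := by
  rw [SymplecticGroup.mem_iff, bd, Matrix.J, fromBlocks_transpose, fromBlocks_multiply, fromBlocks_multiply,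
    fromBlocks_inj]
  simp only [diagonal_transpose, mul_zero, mul_one, mul_neg, zero_add, add_zero, neg_mul, diagonal_mul_diagonal]
  constructor
  · rintro ⟨-, h, -, -⟩ i
    have h1 := congrFun (congrFun h i) i
    simp only [Matrix.add_apply, Matrix.neg_apply, diagonal_apply_eq, one_apply_eq] at h1
    rw [det_fin_two]
    linear_combination -h1
  · intro h
    have h' : ∀ i, G i 0 0 * G i 1 1 - G i 0 1 * G i 1 0 = 1 := fun i => by rw [← det_fin_two, h i]
    refine ⟨?_, ?_, ?_, ?_⟩
    · ext a b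
      by_cases hab : a = b
      · subst hab
        simp only [Matrix.add_apply, Matrix.neg_apply, diagonal_apply_eq, Matrix.zero_apply]
        ring
      · simp [diagonal_apply_ne _ hab]
    · ext a b
      by_cases hab : a = b
      · subst hab
        simp only [Matrix.add_apply, Matrix.neg_apply, diagonal_apply_eq, one_apply_eq]
        linear_combination -(h' a)
      · simp [diagonal_apply_ne _ hab, one_apply_ne hab]
    · ext a b
      by_cases hab : a = b
      · subst hab
        simp only [Matrix.add_apply, Matrix.neg_apply, diagonal_apply_eq, one_apply_eq]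
        linear_combination (h' a)
      · simp [diagonal_apply_ne _ hab, one_apply_ne hab]
    · ext a b
      by_cases hab : a = b
      · subst hab
        simp only [Matrix.add_apply, Matrix.neg_apply, diagonal_apply_eq, Matrix.zero_apply]
        ring
      · simp [diagonal_apply_ne _ hab]

/-- the embedding `SL_2(F)^n → Sp_{2n}(F)` -/
def phi (n : ℕ) (F : Type u) [Field F] :
    (Fin n → Matrix.SpecialLinearGroup (Fin 2) F) →* symplecticGroup (Fin n) F where
  toFun A := ⟨bd fun i => (A i).1, bd_mem.2 fun i => (A i).2⟩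
  map_one' := Subtype.ext (by
    show bd _ = 1
    rw [← bd_one]
    rfl)
  map_mul' A B := Subtype.ext (by
    show bd _ = bd _ * bd _
    rw [← bd_mul]
    rfl)

/-- the quaternion generators -/
def JJ (F : Type u) [Field F] : Matrix.SpecialLinearGroup (Fin 2) F := ⟨!![0, 1; -1, 0], by simp [det_fin_two]⟩

def KK {x y : F} (h : x ^ 2 + y ^ 2 = -1) : Matrix.SpecialLinearGroup (Fin 2) F :=
  ⟨!![x, y; y, -x], by
    simp only [det_fin_two, of_apply, cons_val', cons_val_zero, cons_val_one, empty_val', cons_val_fin_one]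
    linear_combination -h⟩

theorem JJ_sq : JJ F ^ 4 = 1 := by
  apply Subtype.ext
  show (JJ F).1 ^ 4 = 1
  rw [show (JJ F).1 ^ 4 = ((JJ F).1 * (JJ F).1) * ((JJ F).1 * (JJ F).1) by simp [pow_succ, mul_assoc]]
  have h1 : (JJ F).1 * (JJ F).1 = -1 := by
    show !![(0 : F), 1; -1, 0] * !![0, 1; -1, 0] = -1
    ext a b
    fin_cases a <;> fin_cases b <;> simp [mul_apply, Fin.sum_univ_two]
  rw [h1, neg_mul_neg, mul_one]

theorem KK_mul {x y : F} (h : x ^ 2 + y ^ 2 = -1) : (KK h).1 * (KK h).1 = -1 := by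
  show !![x, y; y, -x] * !![x, y; y, -x] = -1
  ext a b
  fin_cases a <;> fin_cases b <;> simp [mul_apply, Fin.sum_univ_two]
  · linear_combination h
  · ring
  · ring
  · linear_combination h

theorem KK_sq {x y : F} (h : x ^ 2 + y ^ 2 = -1) : KK h ^ 4 = 1 := by
  apply Subtype.ext
  show (KK h).1 ^ 4 = 1
  rw [show (KK h).1 ^ 4 = ((KK h).1 * (KK h).1) * ((KK h).1 * (KK h).1) by simp [pow_succ, mul_assoc], KK_mul,
    neg_mul_neg, mul_one]

theorem KJ {x y : F} (h : x ^ 2 + y ^ 2 = -1) : KK h * JJ F * (KK h)⁻¹ = (JJ F)⁻¹ := by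
  rw [mul_inv_eq_iff_eq_mul]
  apply Subtype.ext
  rw [Matrix.SpecialLinearGroup.coe_mul, Matrix.SpecialLinearGroup.coe_mul, Matrix.SpecialLinearGroup.coe_inv]
  show !![x, y; y, -x] * !![(0 : F), 1; -1, 0] = adjugate !![(0 : F), 1; -1, 0] * !![x, y; y, -x]
  rw [adjugate_fin_two]
  ext a b
  fin_cases a <;> fin_cases b <;> simp [mul_apply, Fin.sum_univ_two]

theorem isPGroup_zpowers {G : Type*} [Group G] {g : G} (h : g ^ 4 = 1) : IsPGroup 2 (Subgroup.zpowers g) := by
  rintro ⟨x, k, rfl⟩
  refine ⟨2, Subtype.ext ?_⟩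
  show (g ^ k) ^ (2 ^ 2) = 1
  rw [← zpow_natCast, ← _root_.zpow_mul, mul_comm, _root_.zpow_mul, zpow_natCast]
  norm_num
  rw [h, _root_.one_zpow]

/-- the quaternion group -/
def QQ {x y : F} (h : x ^ 2 + y ^ 2 = -1) : Subgroup (Matrix.SpecialLinearGroup (Fin 2) F) :=
  Subgroup.zpowers (KK h) ⊔ Subgroup.zpowers (JJ F)

theorem isPGroup_QQ {x y : F} (h : x ^ 2 + y ^ 2 = -1) : IsPGroup 2 (QQ h) := by
  refine IsPGroup.to_sup_of_normal_right' (isPGroup_zpowers (KK_sq h)) (isPGroup_zpowers JJ_sq) ?_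
  rw [Subgroup.zpowers_le, Subgroup.mem_normalizer_iff]
  have key : ∀ g : Matrix.SpecialLinearGroup (Fin 2) F, g ∈ Subgroup.zpowers (JJ F) →
      KK h * g * (KK h)⁻¹ ∈ Subgroup.zpowers (JJ F) := by
    rintro _ ⟨k, rfl⟩
    refine ⟨-k, ?_⟩
    show JJ F ^ (-k) = KK h * JJ F ^ k * (KK h)⁻¹
    rw [← conj_zpow, KJ, _root_.inv_zpow, _root_.zpow_neg]
  intro g
  refine ⟨key g, fun hg => ?_⟩
  have hg1 := key _ hg
  have hg2 := key _ hg1
  have hg3 := key _ hg2
  have h4 : KK h * (KK h * (KK h * (KK h * g * (KK h)⁻¹) * (KK h)⁻¹) * (KK h)⁻¹) * (KK h)⁻¹ =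
      KK h ^ 4 * g * (KK h ^ 4)⁻¹ := by
    simp only [pow_succ, pow_zero, one_mul, _root_.mul_inv_rev, mul_assoc]
  rw [h4, KK_sq, one_mul, inv_one, mul_one] at hg3
  exact hg3

/-- the 2-subgroup `Q_8^n` of `Sp_{2n}(q)` -/
def RR (n : ℕ) {x y : F} (h : x ^ 2 + y ^ 2 = -1) : Subgroup (symplecticGroup (Fin n) F) :=
  (Subgroup.pi Set.univ fun _ : Fin n => QQ h).map (phi n F)

theorem isPGroup_RR [Finite F] (n : ℕ) {x y : F} (h : x ^ 2 + y ^ 2 = -1) : IsPGroup 2 (RR n h) := by
  have hfin : Finite (Matrix.SpecialLinearGroup (Fin 2) F) := inferInstance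
  refine IsPGroup.map ?_ _
  obtain ⟨k, hk⟩ := (IsPGroup.iff_card).1 (isPGroup_QQ h)
  rintro ⟨f, hf⟩
  refine ⟨k, Subtype.ext (funext fun i => ?_)⟩
  have h1 : (⟨f i, hf i trivial⟩ : QQ h) ^ (2 ^ k) = 1 := by rw [← hk, pow_card_eq_one']
  exact congrArg Subtype.val h1

theorem comm_two {x y : F} (h : x ^ 2 + y ^ 2 = -1) (h2 : (2 : F) ≠ 0) {G : Matrix (Fin 2) (Fin 2) F}
    (hJ : G * (JJ F).1 = (JJ F).1 * G) (hK : G * (KK h).1 = (KK h).1 * G) : G 0 1 = 0 ∧ G 1 0 = 0 ∧
      G 1 1 = G 0 0 := by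
  have a1 := congrFun (congrFun hJ 0) 0
  have a2 := congrFun (congrFun hJ 0) 1
  have b1 := congrFun (congrFun hK 0) 0
  have b2 := congrFun (congrFun hK 0) 1
  simp only [JJ, KK, mul_apply, Fin.sum_univ_two, of_apply, cons_val', cons_val_zero, cons_val_one, empty_val',
    cons_val_fin_one] at a1 a2 b1 b2
  -- a1 : -G01 = G10 ; a2 : G00 = G11
  have e1 : G 1 0 = - G 0 1 := by linear_combination -a1
  have e2 : G 1 1 = G 0 0 := by linear_combination -a2
  have e3 : y * G 0 1 = 0 := by
    have : 2 * (y * G 0 1) = 0 := by rw [e1] at b1; linear_combination b1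
    exact (mul_eq_zero.1 this).resolve_left h2
  have e4 : x * G 0 1 = 0 := by
    have : 2 * (x * G 0 1) = 0 := by rw [e2] at b2; linear_combination -b2
    exact (mul_eq_zero.1 this).resolve_left h2
  have e5 : G 0 1 = 0 := by
    linear_combination (G 0 1) * h - x * e4 - y * e3
  exact ⟨e5, by rw [e1, e5, neg_zero], e2⟩

theorem sq_of_comm [Finite F] {x y : F} (h : x ^ 2 + y ^ 2 = -1) (h2 : (2 : F) ≠ 0)
    (g : symplecticGroup (Fin n) F) (hg : ∀ u ∈ RR n h, g * u = u * g) : g * g = 1 := by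
  classical
  have hJm : ∀ i, phi n F (Pi.mulSingle i (JJ F)) ∈ RR n h := fun i =>
    Subgroup.mem_map_of_mem _ (by
      intro j _
      by_cases hj : j = i
      · subst hj
        rw [Pi.mulSingle_eq_same]
        exact Subgroup.mem_sup_right (Subgroup.mem_zpowers _)
      · rw [Pi.mulSingle_eq_of_ne hj]
        exact (QQ h).one_mem)
  have hKm : ∀ i, phi n F (Pi.mulSingle i (KK h)) ∈ RR n h := fun i =>
    Subgroup.mem_map_of_mem _ (by
      intro j _
      by_cases hj : j = i
      · subst hj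
        rw [Pi.mulSingle_eq_same]
        exact Subgroup.mem_sup_left (Subgroup.mem_zpowers _)
      · rw [Pi.mulSingle_eq_of_ne hj]
        exact (QQ h).one_mem)
  -- the involutions
  have hE : ∀ i, g.1 * bd (fun j => ((Pi.mulSingle i (KK h) : Fin n → _) j).1 *
      ((Pi.mulSingle i (KK h) : Fin n → _) j).1) =
      bd (fun j => ((Pi.mulSingle i (KK h) : Fin n → _) j).1 * ((Pi.mulSingle i (KK h) : Fin n → _) j).1) *
      g.1 := by
    intro i
    have h1 := congrArg Subtype.val (hg _ ((RR n h).mul_mem (hKm i) (hKm i)))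
    rw [← map_mul] at h1
    exact h1
  have hD : ∀ i, (fun j => ((Pi.mulSingle i (KK h) : Fin n → _) j).1 *
      ((Pi.mulSingle i (KK h) : Fin n → _) j).1) = fun j => (if j = i then (-1 : F) else 1) • 1 := by
    intro i
    funext j
    by_cases hj : j = i
    · subst hj
      rw [Pi.mulSingle_eq_same, KK_mul, if_pos rfl, neg_smul, one_smul]
    · rw [Pi.mulSingle_eq_of_ne hj, if_neg hj, one_smul]
      exact one_mul _
  have hbd : ∀ i, bd (fun j : Fin n => (if j = i then (-1 : F) else 1) • (1 : Matrix (Fin 2) (Fin 2) F)) =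
      diagonal (Sum.elim (fun j => if j = i then (-1 : F) else 1) fun j => if j = i then (-1 : F) else 1) := by
    intro i
    rw [bd, ← fromBlocks_diagonal]
    simp only [Matrix.smul_apply, one_apply_eq, smul_eq_mul, mul_one]
    have e1 : (1 : Matrix (Fin 2) (Fin 2) F) 0 1 = 0 := by simp
    have e2 : (1 : Matrix (Fin 2) (Fin 2) F) 1 0 = 0 := by simp
    simp only [e1, e2, mul_zero]
    rw [show (diagonal fun _ : Fin n => (0 : F)) = 0 from diagonal_zero]
  have hz : ∀ s t : Fin n ⊕ Fin n, Sum.elim (id : Fin n → Fin n) id s ≠ Sum.elim id id t → g.1 s t = 0 := by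
    intro s t hst
    have h1 := congrFun (congrFun (hE (Sum.elim id id s)) s) t
    rw [hD, hbd, mul_diagonal, diagonal_mul] at h1
    have h3 : Sum.elim (fun j => if j = Sum.elim (id : Fin n → Fin n) id s then (-1 : F) else 1)
        (fun j => if j = Sum.elim id id s then (-1 : F) else 1) s = -1 := by
      rcases s with s | s <;> simp
    have h4 : Sum.elim (fun j => if j = Sum.elim (id : Fin n → Fin n) id s then (-1 : F) else 1)
        (fun j => if j = Sum.elim id id s then (-1 : F) else 1) t = 1 := by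
      rcases t with t | t
      · simp only [Sum.elim_inl]
        rw [if_neg]
        exact fun h' => hst h'.symm
      · simp only [Sum.elim_inr]
        rw [if_neg]
        exact fun h' => hst h'.symm
    rw [h3, h4] at h1
    have h5 : 2 * g.1 s t = 0 := by linear_combination h1
    exact (mul_eq_zero.1 h5).resolve_left h2
  obtain ⟨G, hG⟩ : ∃ G : Fin n → Matrix (Fin 2) (Fin 2) F, g.1 = bd G := by
    refine ⟨fun i => !![g.1 (Sum.inl i) (Sum.inl i), g.1 (Sum.inl i) (Sum.inr i); g.1 (Sum.inr i) (Sum.inl i),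
      g.1 (Sum.inr i) (Sum.inr i)], ?_⟩
    ext s t
    rw [bd]
    rcases s with s | s <;> rcases t with t | t
    · rw [fromBlocks_apply₁₁]
      by_cases hst : s = t
      · subst hst; simp
      · rw [diagonal_apply_ne _ hst]; exact hz _ _ hst
    · rw [fromBlocks_apply₁₂]
      by_cases hst : s = t
      · subst hst; simp
      · rw [diagonal_apply_ne _ hst]; exact hz _ _ hst
    · rw [fromBlocks_apply₂₁]
      by_cases hst : s = t
      · subst hst; simp
      · rw [diagonal_apply_ne _ hst]; exact hz _ _ hst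
    · rw [fromBlocks_apply₂₂]
      by_cases hst : s = t
      · subst hst; simp
      · rw [diagonal_apply_ne _ hst]; exact hz _ _ hst
  have hcomm : ∀ (i : Fin n) (A : Matrix.SpecialLinearGroup (Fin 2) F),
      phi n F (Pi.mulSingle i A) ∈ RR n h → G i * A.1 = A.1 * G i := by
    intro i A hA
    have h1 := congrArg Subtype.val (hg _ hA)
    have h3 : bd G * bd (fun j => ((Pi.mulSingle i A : Fin n → _) j).1) =
        bd (fun j => ((Pi.mulSingle i A : Fin n → _) j).1) * bd G := by
      rw [← hG]; exact h1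
    rw [← bd_mul, ← bd_mul] at h3
    have h4 := congrFun (bd_injective h3) i
    simpa only [Pi.mul_apply, Pi.mulSingle_eq_same] using h4
  have hdet : ∀ i, (G i).det = 1 := bd_mem.1 (hG ▸ g.2)
  have hGG : ∀ i, G i * G i = 1 := by
    intro i
    obtain ⟨e1, e2, e3⟩ := comm_two h h2 (hcomm i _ (hJm i)) (hcomm i _ (hKm i))
    have e4 := hdet i
    rw [det_fin_two, e1, e2, e3] at e4
    ext a b
    rw [mul_apply, Fin.sum_univ_two]
    fin_cases a <;> fin_cases b
    · show G i 0 0 * G i 0 0 + G i 0 1 * G i 1 0 = 1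
      rw [e1]; linear_combination e4
    · show G i 0 0 * G i 0 1 + G i 0 1 * G i 1 1 = 0
      rw [e1]; ring
    · show G i 1 0 * G i 0 0 + G i 1 1 * G i 1 0 = 0
      rw [e2]; ring
    · show G i 1 0 * G i 0 1 + G i 1 1 * G i 1 1 = 1
      rw [e1, e2, e3]; linear_combination e4
  apply Subtype.ext
  show g.1 * g.1 = 1
  rw [hG, ← bd_mul, show G * G = 1 from funext hGG, bd_one]

/-- **a 2-subgroup of `PSp_{2n}(q)` centralized by no nontrivial element of odd order** -/
theorem two_local (F : Type u) [Field F] [Finite F] (h2 : (2 : F) ≠ 0) (n : ℕ) :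
    ∃ U : Subgroup (PSp n F), IsPGroup 2 U ∧ ∀ y ∈ Subgroup.centralizer (U : Set (PSp n F)), ¬ 2 ∣ orderOf y →
      y = 1 := by
  obtain ⟨p, hp⟩ := CharP.exists F
  have hp' : p.Prime := by
    have := Fintype.ofFinite F
    exact CharP.char_is_prime F p
  have : NeZero p := ⟨hp'.ne_zero⟩
  obtain ⟨a, b, hab⟩ := CharP.sq_add_sq F p (-1)
  have h : ((a : F)) ^ 2 + (b : F) ^ 2 = -1 := by
    have := hab
    push_cast at this
    exact this
  let π : symplecticGroup (Fin n) F →* PSp n F := QuotientGroup.mk' (Subgroup.center (symplecticGroup (Fin n) F))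
  refine ⟨(RR n h).map π, (isPGroup_RR n h).map π, ?_⟩
  intro y hy hodd
  obtain ⟨g, rfl⟩ := QuotientGroup.mk'_surjective _ y
  have hfin : Finite (PSp n F) := Quotient.finite _
  obtain ⟨k, hk⟩ : ∃ k, orderOf (π g) = 2 * k + 1 := Nat.odd_iff.2 (by
    have h3 : ¬ 2 ∣ orderOf (π g) := hodd
    omega)
  -- `g² ` commutes with everything in `RR`
  have hcent : ∀ u ∈ RR n h, g ^ 2 * u = u * g ^ 2 := by
    intro u hu
    have h1 : π u * π g = π g * π u := Subgroup.mem_centralizer_iff.1 hy _ (Subgroup.mem_map_of_mem π hu)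
    have h3 : (g * u) * (u * g)⁻¹ ∈ Subgroup.center (symplecticGroup (Fin n) F) := by
      rw [← QuotientGroup.ker_mk' (Subgroup.center (symplecticGroup (Fin n) F)), MonoidHom.mem_ker]
      show π ((g * u) * (u * g)⁻¹) = 1
      rw [map_mul, map_inv, map_mul, map_mul, h1, mul_inv_cancel]
    obtain ⟨z, hz⟩ : ∃ z, z = (g * u) * (u * g)⁻¹ := ⟨_, rfl⟩
    rw [← hz] at h3
    have hz2 : z * z = 1 := by rw [← pow_two]; exact Cfsg.Agent.H188.EP.center_sq h3
    have h4 : g * u = z * (u * g) := by rw [hz, inv_mul_cancel_right]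
    have h5 : g * z = z * g := Subgroup.mem_center_iff.1 h3 g
    calc g ^ 2 * u = g * (g * u) := by rw [pow_two, mul_assoc]
      _ = (g * z) * (u * g) := by rw [h4, mul_assoc]
      _ = z * ((g * u) * g) := by rw [h5]; simp only [mul_assoc]
      _ = (z * z) * (u * (g * g)) := by rw [h4]; simp only [mul_assoc]
      _ = u * g ^ 2 := by rw [hz2, one_mul, pow_two]
  have hg4 := sq_of_comm h h2 (g ^ 2) hcent
  have h6 : (π g) ^ 4 = 1 := by
    rw [← map_pow, show g ^ 4 = g ^ 2 * g ^ 2 from by rw [← pow_add], hg4, map_one]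
  have h7 : orderOf (π g) ∣ 4 := orderOf_dvd_of_pow_eq_one h6
  have h8 : orderOf (π g) = 1 := by
    have h9 : Nat.Coprime (orderOf (π g)) (2 ^ 2) :=
      Nat.Coprime.pow_right _ (Nat.Coprime.symm ((Nat.Prime.coprime_iff_not_dvd Nat.prime_two).2 hodd))
    exact Nat.Coprime.eq_one_of_dvd h9 (by norm_num; exact h7)
  exact orderOf_eq_one_iff.1 h8

end Cfsg.Agent.H298.OQ
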